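import Cfsg.Agent.H786.CfgBasic

/-!
# Tools for block III of S5267

* `SE.le_of_normal` : normal subgroups and strongly embedded subgroups;
* `exists_act` : the action induced on a subgroup of a quotient.
-/

set_option autoImplicit false

namespace Cfsg.Agent.H42.MaxEss

open Subgroup Cfsg.Agent.H786

universe u v

section SE

variable {p : ℕ} [hp : Fact p.Prime]

/-- a Sylow subgroup supplements a normal subgroup with quotient a `p`-group -/
theorem sup_sylow_eq_top {C : Type*} [Group C] [Finite C] {N : Subgroup C} [N.Normal]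
    (h : ∀ c : C, ∃ k : ℕ, c ^ p ^ k ∈ N) (Q : Sylow p C) : N ⊔ (Q : Subgroup C) = ⊤ := by
  have h1 : IsPGroup p (C ⧸ N) := by
    intro q
    obtain ⟨c, rfl⟩ := QuotientGroup.mk'_surjective N q
    obtain ⟨k, hk⟩ := h c
    refine ⟨k, ?_⟩
    rw [← map_pow]
    exact (QuotientGroup.eq_one_iff _).2 hk
  let Q' : Sylow p (C ⧸ N) := Q.mapSurjective (QuotientGroup.mk'_surjective N)
  have h2 : (⊤ : Subgroup (C ⧸ N)) = (Q' : Subgroup (C ⧸ N)) :=
    Q'.is_maximal' (h1.to_subgroup ⊤) le_top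
  have h3 : (Q' : Subgroup (C ⧸ N)) = (Q : Subgroup C).map (QuotientGroup.mk' N) := rfl
  rw [eq_top_iff]
  intro c _
  have h4 : QuotientGroup.mk' N c ∈ (Q : Subgroup C).map (QuotientGroup.mk' N) := by
    rw [← h3, ← h2]
    trivial
  obtain ⟨q, hq, hqc⟩ := h4
  have h5 : c * q⁻¹ ∈ N := by
    rw [← QuotientGroup.eq_one_iff]
    show QuotientGroup.mk' N (c * q⁻¹) = 1
    rw [map_mul, map_inv, hqc, mul_inv_cancel]
  have e : c = (c * q⁻¹) * q := by group
  rw [e]
  exact mul_mem (mem_sup_left h5) (mem_sup_right hq)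

variable {Γ : Type v} [Group Γ] [Finite Γ] {H R : Subgroup Γ}

/-- the supplement in terms of subgroups -/
theorem le_sup_of_sylow {N C : Subgroup Γ} [hN : N.Normal] (hC : ∀ c ∈ C, ∃ k : ℕ, c ^ p ^ k ∈ N) (Q : Sylow p C) :
    C ≤ N ⊔ (Q : Subgroup C).map C.subtype := by
  have h1 := sup_sylow_eq_top (N := N.subgroupOf C) (fun c => by
    obtain ⟨k, hk⟩ := hC c c.2
    refine ⟨k, ?_⟩
    rw [mem_subgroupOf]
    exact hk) Q
  intro c hc
  have h2 : (⟨c, hc⟩ : C) ∈ N.subgroupOf C ⊔ (Q : Subgroup C) := by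
    rw [h1]
    trivial
  have h3 : ((⟨c, hc⟩ : C) : Γ) ∈ (N.subgroupOf C ⊔ (Q : Subgroup C)).map C.subtype := ⟨_, h2, rfl⟩
  rw [Subgroup.map_sup] at h3
  have h4 : (N.subgroupOf C).map C.subtype ≤ N := by
    rintro _ ⟨x, hx, rfl⟩
    exact mem_subgroupOf.1 hx
  exact (sup_le_sup_right h4 ((Q : Subgroup C).map C.subtype) : _ ≤ _) h3

/-- **Normal subgroups and strongly embedded subgroups.** `N ≤ C` normal in `Γ`, `C/N` a `p`-group, `N ≤ H`:
then `C ≤ H` and `C ∩ R = 1`. -/
theorem le_of_normal (h : SE p H R) {N C : Subgroup Γ} [hNn : N.Normal] [hCn : C.Normal] (hN : N ≤ H)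
    (hC : ∀ c ∈ C, ∃ k : ℕ, c ^ p ^ k ∈ N) : C ≤ H ∧ ∀ r ∈ R, r ∈ C → r = 1 := by
  by_cases hex : ∃ r ∈ R, r ∈ C ∧ r ≠ 1
  · exfalso
    obtain ⟨r, hr, hrC, hr1⟩ := hex
    have hup : IsPGroup p (zpowers r) := h.pgroup.to_le (zpowers_le.mpr hr)
    have hup' : IsPGroup p ((zpowers r).subgroupOf C) := hup.comap_subtype
    obtain ⟨Q, hQ⟩ := hup'.exists_le_sylow
    have hrQ : r ∈ (Q : Subgroup C).map C.subtype :=
      ⟨⟨r, hrC⟩, hQ (mem_subgroupOf.mpr (mem_zpowers r)), rfl⟩
    have hQH := h.pgroup_le (Q.isPGroup'.map _) (h.le hr) hrQ hr1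
    have hCH : C ≤ H := (le_sup_of_sylow hC Q).trans (sup_le hN hQH)
    apply h.ne
    rw [eq_top_iff]
    intro g _
    obtain ⟨y, hy, k, hk, rfl⟩ := h.frattini hrC hr hr1 g
    exact mul_mem (hCH hy) hk
  · push Not at hex
    refine ⟨?_, hex⟩
    obtain ⟨Q⟩ : Nonempty (Sylow p C) := inferInstance
    refine (le_sup_of_sylow hC Q).trans (sup_le hN ?_)
    obtain ⟨g, hg⟩ := h.exists_conj (Q.isPGroup'.map C.subtype)
    intro s hs
    have h1 : g⁻¹ * s * g ∈ C := by
      have h2 : s ∈ C := by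
        obtain ⟨x, -, rfl⟩ := hs
        exact x.2
      have := hCn.conj_mem s h2 g⁻¹
      rwa [inv_inv] at this
    have h3 := hex _ (hg s hs) h1
    have h4 : s = 1 := by
      have e : s = g * (g⁻¹ * s * g) * g⁻¹ := by group
      rw [e, h3]
      group
    rw [h4]
    exact one_mem H

end SE

section act

variable {X Q G : Type*} [Group X] [Group Q] [Group G]

/-- **The induced action.** -/
theorem exists_act (j : X →* Q) (V : Subgroup Q) (hV : V ≤ j.range) (ψ : G →* MulAut X)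
    (h1 : ∀ g x, j x = 1 → j (ψ g x) = 1) (h2 : ∀ g x, j x ∈ V → j (ψ g x) ∈ V) :
    ∃ ρ : G →* MulAut V, ∀ g (v : V) x, j x = v → ((ρ g v : V) : Q) = j (ψ g x) := by
  have hex : ∀ v : V, ∃ x, j x = v := fun v => hV v.2
  choose c hc using hex
  have hwd : ∀ g x y, j x = j y → j (ψ g x) = j (ψ g y) := by
    intro g x y hxy
    have h3 : j (x * y⁻¹) = 1 := by rw [map_mul, map_inv, hxy, mul_inv_cancel]
    have h4 := h1 g _ h3
    rw [map_mul, map_inv, map_mul, map_inv] at h4
    exact mul_inv_eq_one.1 h4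
  let f : G → V → V := fun g v => ⟨j (ψ g (c v)), h2 g _ (by rw [hc]; exact v.2)⟩
  have hf : ∀ g (v : V) x, j x = v → ((f g v : V) : Q) = j (ψ g x) := by
    intro g v x hx
    exact hwd g _ _ ((hc v).trans hx.symm)
  have hmul : ∀ g h v, f (g * h) v = f g (f h v) := by
    intro g h v
    apply Subtype.ext
    rw [hf (g * h) v (c v) (hc v), hf g (f h v) (ψ h (c v)) rfl, map_mul]
    rfl
  have hone : ∀ v, f 1 v = v := by
    intro v
    apply Subtype.ext
    rw [hf 1 v (c v) (hc v), map_one]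
    exact hc v
  have hm : ∀ g v w, f g (v * w) = f g v * f g w := by
    intro g v w
    apply Subtype.ext
    have h3 : j (c v * c w) = ((v * w : V) : Q) := by
      rw [map_mul, hc, hc]
      rfl
    rw [hf g (v * w) (c v * c w) h3, map_mul, map_mul, Subgroup.coe_mul]
  let F : G → MulAut V := fun g =>
    { toFun := f g
      invFun := f g⁻¹
      left_inv := fun v => by rw [← hmul, inv_mul_cancel, hone]
      right_inv := fun v => by rw [← hmul, mul_inv_cancel, hone]
      map_mul' := hm g }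
  refine ⟨{ toFun := F
            map_one' := MulEquiv.ext hone
            map_mul' := fun g h => MulEquiv.ext fun v => hmul g h v }, fun g v x hx => hf g v x hx⟩

end act

end Cfsg.Agent.H42.MaxEss
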