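import Cfsg.Agent.H42.MaxEss.Quot
import Cfsg.Agent.H786.CoreX

/-!
# Block III of S5267, exceptional case: the configuration `CfgX`
-/

set_option autoImplicit false

namespace Cfsg.Agent.H42.MaxEss

open Subgroup Cfsg.Agent.H786 Cfsg.Agent.H467.MaxClass
open scoped commutatorElement

universe u

variable {P XM XE : Type u} [Group P] [Group XM] [Group XE]
variable {p n : ℕ} {W : ℕ → Subgroup P} {ιM : XM →* P} {ιE : XE →* P} {GM : Subgroup (MulAut XM)}
  {GE : Subgroup (MulAut XE)} {H : Subgroup (GE ⧸ II GE)}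

/-- the exceptional core lemma as a hypothesis -/
def CX (p : ℕ) : Prop :=
  ∀ {P : Type u} [Group P] [Finite P] {n : ℕ} {W : ℕ → Subgroup P} [(W 1).Normal]
    {A : Subgroup (MulAut (W 1))} {E : Subgroup P} {B H : Subgroup (MulAut E)}, CfgX p n W A E B H → ZInv B (W (n - 1))

variable [Finite P] [Finite XM] [Finite XE] [hp : Fact p.Prime]

/-- `Ess` gives `CfgX`. -/
theorem Ess.zinv (hCX : CX.{u} p) (e : Ess p n W ιM ιE GM GE H) (hexc : e.mc.Ksub (n - 2) ≠ W 1)
    (hZ : ∀ a ∈ GM, ∀ x, ιM x ∈ W (n - 1) → ιM (a x) ∈ W (n - 1)) (g : GE) (x : XE) (hx : ιE x ∈ W (n - 1)) :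
    ιE ((g : MulAut XE) x) ∈ W (n - 1) := by
  have hn1 := e.mc.normal 1
  obtain ⟨τ, hτ⟩ := e.exists_tau0
  have hse := e.se hτ
  obtain ⟨ρM, hρM⟩ := exists_act ιM (W 1) e.rangeM.ge GM.subtype
    (fun a x hx => by
      have h1 : x = 1 := e.injM (by rw [hx, map_one])
      rw [h1, map_one, map_one])
    (fun a x _ => by rw [← e.rangeM]; exact ⟨_, rfl⟩)
  obtain ⟨ρE, hρE⟩ := exists_act ιE ιE.range le_rfl GE.subtype
    (fun a x hx => by
      have h1 : x = 1 := e.injE (by rw [hx, map_one])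
      rw [h1, map_one, map_one])
    (fun a x _ => ⟨_, rfl⟩)
  have hρM' : ∀ (a : GM) (v : W 1) x, ιM x = v → ((ρM a v : W 1) : P) = ιM ((a : MulAut XM) x) := hρM
  have hρE' : ∀ (a : GE) (v : ιE.range) x, ιE x = v → ((ρE a v : ιE.range) : P) = ιE ((a : MulAut XE) x) := hρE
  have hinj : Function.Injective ρE := by
    intro g h hgh
    apply Subtype.ext
    apply MulEquiv.ext
    intro x
    apply e.injE
    rw [← hρE' g ⟨ιE x, ⟨x, rfl⟩⟩ x rfl, ← hρE' h ⟨ιE x, ⟨x, rfl⟩⟩ x rfl, hgh]
  set H0 : Subgroup GE := H.comap (QuotientGroup.mk' (II GE)) with hH0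
  have hH0m : ∀ g : GE, g ∈ H0 ↔ (QuotientGroup.mk g : GE ⧸ II GE) ∈ H := fun g => Iff.rfl
  have hτE : ∀ s : normalizer (ιE.range : Set P), (ιE.range).normalizerMonoidHom s = ρE (τ s) := by
    intro s
    apply MulEquiv.ext
    rintro ⟨_, x, rfl⟩
    apply Subtype.ext
    rw [hρE' (τ s) ⟨ιE x, ⟨x, rfl⟩⟩ x rfl, hτ]
    rfl
  have hmM : ∀ x : XE, ∃ x', ιM x' = ιE x := by
    intro x
    have : ιE x ∈ ιM.range := by
      rw [e.rangeM]
      exact e.rangeE ⟨_, rfl⟩
    exact this
  have c : CfgX p n W ρM.range ιE.range ρE.range (H0.map ρE) :=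
    { mc := e.mc
      five := e.five
      exc := hexc
      conj_le := by
        rintro _ ⟨s, rfl⟩
        obtain ⟨a, ha, h1⟩ := e.conjM s
        refine ⟨⟨a, ha⟩, ?_⟩
        apply MulEquiv.ext
        intro v
        apply Subtype.ext
        have hv : (v : P) ∈ ιM.range := by rw [e.rangeM]; exact v.2
        obtain ⟨x, hx⟩ := hv
        rw [hρM' ⟨a, ha⟩ v x hx, MulAut.conjNormal_apply, ← hx]
        exact h1 x
      sylow := by
        obtain ⟨T, hT⟩ := e.sylM
        intro hd
        have h1 : (T : Subgroup GM).map ρM ≤ conjGrp (W 1) := by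
          rintro _ ⟨a, ha, rfl⟩
          obtain ⟨s, hs'⟩ := hT a ha
          refine ⟨s, ?_⟩
          apply MulEquiv.ext
          intro v
          apply Subtype.ext
          have hv : (v : P) ∈ ιM.range := by rw [e.rangeM]; exact v.2
          obtain ⟨x, hx⟩ := hv
          rw [hρM' a v x hx, MulAut.conjNormal_apply, ← hx]
          exact (hs' x).symm
        have h2 := (Subgroup.relIndex_dvd_of_le_left ρM.range h1)
        have h3 : ((T : Subgroup GM).map ρM).relIndex ρM.range ∣ (T : Subgroup GM).index := by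
          have e1 : ((T : Subgroup GM).map ρM).relIndex ρM.range = ((T : Subgroup GM).map ρM.rangeRestrict).index := by
            rw [Subgroup.relIndex]
            congr 1
            ext ⟨y, hy⟩
            constructor
            · rintro ⟨a, ha, hay⟩
              exact ⟨a, ha, Subtype.ext hay⟩
            · rintro ⟨a, ha, hay⟩
              exact ⟨a, ha, congrArg Subtype.val hay⟩
          rw [e1]
          exact (T : Subgroup GM).index_map_dvd ρM.rangeRestrict_surjective
        exact T.not_dvd_index (hd.trans (h2.trans h3))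
      Z_inv := by
        rintro _ ⟨a, rfl⟩ v hv
        have hv' : (v : P) ∈ ιM.range := by rw [e.rangeM]; exact v.2
        obtain ⟨x, hx⟩ := hv'
        rw [hρM' a v x hx]
        exact hZ a a.2 x (by rw [hx]; exact hv)
      E_le := e.rangeE
      E_ne := e.ne
      cent := fun s hs => e.centric s fun x => hs _ ⟨x, rfl⟩
      H_le := by
        rintro _ ⟨h, -, rfl⟩
        exact ⟨h, rfl⟩
      H_ne := by
        intro h
        apply e.H_ne
        rw [eq_top_iff]
        intro γ _
        obtain ⟨g, rfl⟩ := QuotientGroup.mk_surjective γ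
        have h1 : ρE g ∈ H0.map ρE := by rw [h]; exact ⟨g, rfl⟩
        obtain ⟨g', hg', h2⟩ := h1
        rw [hinj h2] at hg'
        exact hg'
      conj_mem := by
        intro s
        rw [hτE]
        exact ⟨τ s, hse.le ⟨s, rfl⟩, rfl⟩
      sylowB := by
        obtain ⟨T, hT⟩ := e.sylE
        intro hd
        have h1 : (T : Subgroup GE).map ρE ≤ (ιE.range).normalizerMonoidHom.range := by
          rintro _ ⟨a, ha, rfl⟩
          obtain ⟨s, hs'⟩ := hT a ha
          refine ⟨⟨s, mem_normalizer_of_conj hs'⟩, ?_⟩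
          rw [hτE]
          congr 1
          apply Subtype.ext
          apply MulEquiv.ext
          intro x
          apply e.injE
          rw [hτ, hs']
        have h2 := (Subgroup.relIndex_dvd_of_le_left ρE.range h1)
        have h3 : ((T : Subgroup GE).map ρE).relIndex ρE.range ∣ (T : Subgroup GE).index := by
          have e1 : ((T : Subgroup GE).map ρE).relIndex ρE.range = ((T : Subgroup GE).map ρE.rangeRestrict).index := by
            rw [Subgroup.relIndex]
            congr 1
            ext ⟨y, hy⟩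
            constructor
            · rintro ⟨a, ha, hay⟩
              exact ⟨a, ha, Subtype.ext hay⟩
            · rintro ⟨a, ha, hay⟩
              exact ⟨a, ha, congrArg Subtype.val hay⟩
          rw [e1]
          exact (T : Subgroup GE).index_map_dvd ρE.rangeRestrict_surjective
        exact T.not_dvd_index (hd.trans (h2.trans h3))
      emb := by
        rintro _ ⟨g, rfl⟩ hg s hs
        rw [hτE, ← map_inv, ← map_mul, ← map_mul] at hs
        obtain ⟨g', hg', h2⟩ := hs
        rw [hinj h2] at hg'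
        have h3 : (QuotientGroup.mk g : GE ⧸ II GE) ∉ H := fun h => hg ⟨g, h, rfl⟩
        have h4 := hse.emb (QuotientGroup.mk g) h3 (QuotientGroup.mk (τ s)) ⟨s, rfl⟩ hg'
        exact (e.tau_eq_one hτ s).1 h4
      ext := by
        rintro _ ⟨g, hg, rfl⟩
        obtain ⟨a, ha, h1⟩ := (e.mem_H g).1 hg
        refine ⟨ρM ⟨a, ha⟩, ⟨_, rfl⟩, ?_⟩
        rintro ⟨_, y, rfl⟩
        obtain ⟨x, hx⟩ := hmM y
        have hx1 : ιE y ∈ W 1 := e.rangeE ⟨y, rfl⟩
        rw [hρE' g ⟨ιE y, ⟨y, rfl⟩⟩ y rfl, ap_of_mem _ hx1, hρM' ⟨a, ha⟩ ⟨ιE y, hx1⟩ x hx]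
        exact h1 x y hx }
  have h1 := hCX c (ρE g) ⟨g, rfl⟩ ⟨ιE x, ⟨x, rfl⟩⟩ hx
  rw [hρE' g ⟨ιE x, ⟨x, rfl⟩⟩ x rfl] at h1
  exact h1

end Cfsg.Agent.H42.MaxEss
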