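import Cfsg.Agent.H42.MaxEss.Stage

/-!
# Block III of S5267: the core configuration in `P / W j`
-/

set_option autoImplicit false

namespace Cfsg.Agent.H42.MaxEss

open Subgroup Cfsg.Agent.H786 Cfsg.Agent.H467.MaxClass
open scoped commutatorElement

universe u

variable {P XM XE : Type u} [Group P] [Group XM] [Group XE]
variable {p n : ℕ} {W : ℕ → Subgroup P} {ιM : XM →* P} {ιE : XE →* P} {GM : Subgroup (MulAut XM)}
  {GE : Subgroup (MulAut XE)} {H : Subgroup (GE ⧸ II GE)}

/-- the elements of order dividing `p` in the centre of `E` -/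
def om {Q : Type u} [Group Q] (p : ℕ) (E : Subgroup Q) : Subgroup Q where
  carrier := {v | v ∈ E ∧ v ^ p = 1 ∧ ∀ e ∈ E, Commute e v}
  one_mem' := ⟨one_mem _, one_pow _, fun e _ => Commute.one_right e⟩
  mul_mem' := by
    rintro v w ⟨hv, hv1, hv2⟩ ⟨hw, hw1, hw2⟩
    refine ⟨mul_mem hv hw, ?_, fun e he => (hv2 e he).mul_right (hw2 e he)⟩
    rw [(hw2 v hv).mul_pow, hv1, hw1, one_mul]
  inv_mem' := by
    rintro v ⟨hv, hv1, hv2⟩
    exact ⟨inv_mem hv, by rw [inv_pow, hv1, inv_one], fun e he => (hv2 e he).inv_right⟩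

theorem mem_om {Q : Type u} [Group Q] {p : ℕ} {E : Subgroup Q} {v : Q} :
    v ∈ om p E ↔ v ∈ E ∧ v ^ p = 1 ∧ ∀ e ∈ E, Commute e v := Iff.rfl

/-- membership in the image of a subgroup containing the kernel -/
theorem mem_map_mk {N A : Subgroup P} [N.Normal] (h : N ≤ A) {x : P} :
    QuotientGroup.mk' N x ∈ A.map (QuotientGroup.mk' N) ↔ x ∈ A := by
  constructor
  · rintro ⟨y, hy, hyx⟩
    have h1 : y⁻¹ * x ∈ N := by
      rw [← QuotientGroup.eq]
      exact hyx
    have e : x = y * (y⁻¹ * x) := by group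
    rw [e]
    exact mul_mem hy (h h1)
  · intro hx
    exact ⟨x, hx, rfl⟩

/-- the core lemma as a hypothesis -/
def CL (p : ℕ) : Prop :=
  ∀ {P : Type u} [Group P] [Finite P] {n : ℕ} {W : ℕ → Subgroup P} [(W 1).Normal]
    {A : Subgroup (MulAut (W 1))} {E V : Subgroup P} {Γ : Type u} [Group Γ] [Finite Γ] {ρ : Γ →* MulAut V}
    {H : Subgroup Γ} {τ : (normalizer (E : Set P)) →* Γ}, Cfg p n W A E V ρ H τ → Concl n W A V ρ

variable [Finite P] [Finite XM] [Finite XE] [hp : Fact p.Prime]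

/-- **From stage `j` to a smaller stage.** -/
theorem Stage.descend (hCL : CL.{u} p) (e : Ess p n W ιM ιE GM GE H) {j : ℕ} (hj4 : 4 ≤ j) (hjn : j ≤ n)
    (hs : Stage W ιM ιE GM GE H j) (hdeg : ∀ i k, 1 ≤ i → 1 ≤ k → ⁅W i, W k⁆ ≤ W (i + k + 1) ⊔ W j) :
    ∃ i, 1 ≤ i ∧ i < j ∧ Stage W ιM ιE GM GE H i := by
  have hnj := e.mc.normal j
  have hn1 := e.mc.normal 1
  obtain ⟨τ, hτ⟩ := e.exists_tau0
  have hse := e.se hτ
  set q := QuotientGroup.mk' (W j) with hq
  have hqs : Function.Surjective q := QuotientGroup.mk'_surjective (W j)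
  have hq1 : ∀ x, q x = 1 ↔ x ∈ W j := fun x => QuotientGroup.eq_one_iff _
  let W' : ℕ → Subgroup (P ⧸ W j) := fun i => (W i).map q
  have hmc : MC (P ⧸ W j) p j W' := e.mc.quot hj4 hjn
  have hn1' : (W' 1).Normal := hmc.normal 1
  let θM : XM →* P ⧸ W j := q.comp ιM
  let θE : XE →* P ⧸ W j := q.comp ιE
  have hrM : θM.range = W' 1 := by
    show (q.comp ιM).range = (W 1).map q
    rw [MonoidHom.range_comp, e.rangeM]
  let E' : Subgroup (P ⧸ W j) := (ιE.range).map q
  have hrE : θE.range = E' := by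
    show (q.comp ιE).range = _
    rw [MonoidHom.range_comp]
  have hE'1 : E' ≤ W' 1 := Subgroup.map_mono e.rangeE
  have hjle : W j ≤ ιE.range := hs.le
  have hj1 : W j ≤ W 1 := hjle.trans e.rangeE
  -- the actions
  obtain ⟨ρM, hρM⟩ := exists_act θM (W' 1) hrM.ge GM.subtype
    (fun a x hx => (hq1 _).2 (hs.invM a a.2 x ((hq1 _).1 hx)))
    (fun a x _ => by rw [← hrM]; exact ⟨_, rfl⟩)
  have hgE : ∀ (g : GE) (x y : XE), θE x = θE y → θE ((g : MulAut XE) x) = θE ((g : MulAut XE) y) := by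
    intro g x y hxy
    have h1 : θE (x * y⁻¹) = 1 := by rw [map_mul, map_inv, hxy, mul_inv_cancel]
    have h2 : θE ((g : MulAut XE) (x * y⁻¹)) = 1 := (hq1 _).2 (hs.invE g _ ((hq1 _).1 h1))
    rw [map_mul, map_inv, map_mul, map_inv] at h2
    exact mul_inv_eq_one.1 h2
  obtain ⟨ρE, hρE⟩ := exists_act θE (om p E') (fun v hv => by rw [hrE]; exact hv.1) GE.subtype
    (fun g x hx => (hq1 _).2 (hs.invE g x ((hq1 _).1 hx)))
    (fun g x hx => by
      obtain ⟨-, h1, h2⟩ := hx
      refine ⟨?_, ?_, ?_⟩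
      · rw [← hrE]; exact ⟨_, rfl⟩
      · have h3 : θE (x ^ p) = θE 1 := by rw [map_pow, h1, map_one]
        have h4 := hgE g _ _ h3
        rw [map_pow, map_one, map_pow, map_one] at h4
        exact h4
      · intro y hy
        rw [← hrE] at hy
        obtain ⟨y, rfl⟩ := hy
        have h3 : θE (((g⁻¹ : GE) : MulAut XE) y * x) = θE (x * ((g⁻¹ : GE) : MulAut XE) y) := by
          rw [map_mul, map_mul]
          exact h2 _ (by rw [← hrE]; exact ⟨_, rfl⟩)
        have h4 := hgE g _ _ h3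
        have h5 : (g : MulAut XE) (((g⁻¹ : GE) : MulAut XE) y) = y := by
          show ((g * g⁻¹ : GE) : MulAut XE) y = y
          rw [mul_inv_cancel]; rfl
        rw [map_mul, map_mul, map_mul, map_mul, h5] at h4
        exact h4)
  -- descend to `Γ`
  have hI : ∀ g ∈ II GE, ρE g = 1 := by
    intro g hg
    obtain ⟨y, hy⟩ := Ess.mem_II.1 hg
    apply MulEquiv.ext
    intro v
    apply Subtype.ext
    have hv : (v : P ⧸ W j) ∈ θE.range := by rw [hrE]; exact v.2.1
    obtain ⟨x, hx⟩ := hv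
    have h1 := hρE g v x hx
    rw [h1]
    show θE ((g : MulAut XE) x) = v
    rw [hy, map_mul, map_mul, map_inv, hx]
    have h2 : Commute (θE y) (v : P ⧸ W j) := v.2.2.2 _ (by rw [← hrE]; exact ⟨_, rfl⟩)
    rw [h2.eq, mul_inv_cancel_right]
  let ρ : (GE ⧸ II GE) →* MulAut (om p E') := QuotientGroup.lift (II GE) ρE hI
  have hρ : ∀ (g : GE) (v : om p E') x, θE x = v → ((ρ (QuotientGroup.mk g) v : om p E') : P ⧸ W j) =
      θE ((g : MulAut XE) x) := fun g v x hx => hρE g v x hx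
  -- the normaliser of `E'`
  have hnm : ∀ s : P, q s ∈ normalizer (E' : Set (P ⧸ W j)) ↔ s ∈ normalizer (ιE.range : Set P) := by
    intro s
    rw [mem_normalizer_iff, mem_normalizer_iff]
    constructor
    · intro h y
      have := h (q y)
      rw [← map_inv, ← map_mul, ← map_mul] at this
      rw [mem_map_mk hjle, mem_map_mk hjle] at this
      exact this
    · intro h y
      obtain ⟨y, rfl⟩ := hqs y
      rw [← map_inv, ← map_mul, ← map_mul, mem_map_mk hjle, mem_map_mk hjle]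
      exact h y
  let f : normalizer (ιE.range : Set P) →* normalizer (E' : Set (P ⧸ W j)) :=
    (q.comp (normalizer (ιE.range : Set P)).subtype).codRestrict _ fun s => (hnm s).2 s.2
  have hf : Function.Surjective f := by
    rintro ⟨t, ht⟩
    obtain ⟨s, rfl⟩ := hqs t
    exact ⟨⟨s, (hnm s).1 ht⟩, rfl⟩
  let τΓ : normalizer (ιE.range : Set P) →* GE ⧸ II GE := (QuotientGroup.mk' (II GE)).comp τ
  have hker : f.ker ≤ τΓ.ker := by
    intro s hs'
    rw [MonoidHom.mem_ker] at hs' ⊢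
    have h1 : q (s : P) = 1 := congrArg Subtype.val hs'
    exact (e.tau_eq_one hτ s).2 (hjle ((hq1 _).1 h1))
  let τ' : normalizer (E' : Set (P ⧸ W j)) →* GE ⧸ II GE := f.liftOfSurjective hf ⟨τΓ, hker⟩
  have hτ' : ∀ s, τ' (f s) = τΓ s := fun s => f.liftOfRightInverse_comp_apply _ _ ⟨τΓ, hker⟩ s
  have hrange : τ'.range = τΓ.range := by
    ext γ
    constructor
    · rintro ⟨t, rfl⟩
      obtain ⟨s, rfl⟩ := hf t
      exact ⟨s, (hτ' s).symm⟩
    · rintro ⟨s, rfl⟩
      exact ⟨f s, hτ' s⟩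
  have hcl : Concl j W' ρM.range (om p E') ρ := by
    refine hCL (Γ := GE ⧸ II GE) (E := E') (V := om p E') (ρ := ρ) (H := H) (τ := τ') ?_
    refine
      { mc := hmc
        deg := ?_
        five := e.five
        conj_le := ?_
        sylow := ?_
        E_le := hE'1
        E_ne := ?_
        mem_V := fun v => mem_om
        ρτ := ?_
        ker := ?_
        H_ne := e.H_ne
        τ_mem := ?_
        emb := ?_
        sylowΓ := ?_
        ext := ?_
        cent := ?_ }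
    · intro i k hi hk
      show ⁅(W i).map q, (W k).map q⁆ ≤ (W (i + k + 1)).map q
      rw [← map_commutator]
      refine (Subgroup.map_mono (hdeg i k hi hk)).trans ?_
      rw [Subgroup.map_sup, sup_le_iff]
      refine ⟨le_rfl, ?_⟩
      have h1 : (W j).map q = ⊥ := by
        rw [Subgroup.map_eq_bot_iff, QuotientGroup.ker_mk']
      rw [h1]
      exact bot_le
    · rintro _ ⟨s', rfl⟩
      obtain ⟨s, rfl⟩ := hqs s'
      obtain ⟨a, ha, h1⟩ := e.conjM s
      refine ⟨⟨a, ha⟩, ?_⟩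
      apply MulEquiv.ext
      intro v
      apply Subtype.ext
      have hv : (v : P ⧸ W j) ∈ θM.range := by rw [hrM]; exact v.2
      obtain ⟨x, hx⟩ := hv
      rw [hρM ⟨a, ha⟩ v x hx, MulAut.conjNormal_apply, ← hx]
      show q (ιM (a x)) = q s * q (ιM x) * (q s)⁻¹
      rw [h1, map_mul, map_mul, map_inv]
    · obtain ⟨T, hT⟩ := e.sylM
      intro hd
      have h1 : (T : Subgroup GM).map ρM ≤ conjGrp (W' 1) := by
        rintro _ ⟨a, ha, rfl⟩
        obtain ⟨s, hs'⟩ := hT a ha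
        refine ⟨q s, ?_⟩
        apply MulEquiv.ext
        intro v
        apply Subtype.ext
        have hv : (v : P ⧸ W j) ∈ θM.range := by rw [hrM]; exact v.2
        obtain ⟨x, hx⟩ := hv
        rw [hρM a v x hx, MulAut.conjNormal_apply, ← hx]
        show q s * q (ιM x) * (q s)⁻¹ = q (ιM ((a : MulAut XM) x))
        rw [hs', map_mul, map_mul, map_inv]
      have h2 := (Subgroup.relIndex_dvd_of_le_left ρM.range h1)
      have h3 : ((T : Subgroup GM).map ρM).relIndex ρM.range ∣ (T : Subgroup GM).index := by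
        have e1 : ((T : Subgroup GM).map ρM).relIndex ρM.range = ((T : Subgroup GM).map ρM.rangeRestrict).index := by
          rw [Subgroup.relIndex]
          congr 1
          ext ⟨y, hy⟩
          constructor
          · rintro ⟨a, ha, hay⟩
            exact ⟨a, ha, Subtype.ext hay⟩
          · rintro ⟨a, ha, hay⟩
            exact ⟨a, ha, congrArg Subtype.val hay⟩
        rw [e1]
        exact (T : Subgroup GM).index_map_dvd ρM.rangeRestrict_surjective
      exact T.not_dvd_index (hd.trans (h2.trans h3))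
    · intro h
      apply e.ne
      apply le_antisymm e.rangeE
      intro x hx
      rw [← mem_map_mk hjle]
      show q x ∈ E'
      rw [h]
      exact ⟨x, hx, rfl⟩
    · intro t v
      obtain ⟨s, rfl⟩ := hf t
      have hv : (v : P ⧸ W j) ∈ θE.range := by rw [hrE]; exact v.2.1
      obtain ⟨x, hx⟩ := hv
      rw [hτ']
      have h1 := hρ (τ s) v x hx
      refine h1.trans ?_
      show q (ιE (((τ s : GE) : MulAut XE) x)) = q s * v * (q s)⁻¹
      rw [hτ, map_mul, map_mul, map_inv, ← hx]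
      rfl
    · intro t
      obtain ⟨s, rfl⟩ := hf t
      rw [hτ']
      have h1 := e.tau_eq_one hτ s
      show (QuotientGroup.mk (τ s) : GE ⧸ II GE) = 1 ↔ q (s : P) ∈ E'
      rw [h1, mem_map_mk hjle]
    · intro t
      obtain ⟨s, rfl⟩ := hf t
      rw [hτ']
      exact hse.le ⟨s, rfl⟩
    · intro γ hγ t ht
      obtain ⟨s, rfl⟩ := hf t
      rw [hτ'] at ht ⊢
      exact hse.emb γ hγ _ ⟨s, rfl⟩ ht
    · rw [hrange]
      exact hse.index
    · intro h hh
      obtain ⟨g, rfl⟩ := QuotientGroup.mk_surjective h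
      obtain ⟨a, ha, h1⟩ := (e.mem_H g).1 hh
      refine ⟨ρM ⟨a, ha⟩, ⟨_, rfl⟩, ?_, ?_⟩
      · intro v
        have hv : (v : P ⧸ W j) ∈ θM.range := by rw [hrM]; exact v.2
        obtain ⟨x, hx⟩ := hv
        rw [hρM ⟨a, ha⟩ v x hx, ← hx]
        show q (ιM x) ∈ E' ↔ q (ιM (a x)) ∈ E'
        rw [mem_map_mk hjle, mem_map_mk hjle]
        constructor
        · rintro ⟨y, hy⟩
          exact ⟨_, (h1 x y hy.symm).symm⟩
        · rintro ⟨y', hy'⟩
          obtain ⟨x', hx'⟩ : ∃ x', ιM x' = ιE (((g⁻¹ : GE) : MulAut XE) y') := by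
            have : ιE (((g⁻¹ : GE) : MulAut XE) y') ∈ ιM.range := by
              rw [e.rangeM]
              exact e.rangeE ⟨_, rfl⟩
            exact this
          have h2 := h1 x' _ hx'
          have h3 : (g : MulAut XE) (((g⁻¹ : GE) : MulAut XE) y') = y' := by
            show ((g * g⁻¹ : GE) : MulAut XE) y' = y'
            rw [mul_inv_cancel]; rfl
          rw [h3, hy'] at h2
          have h4 : x' = x := a.injective (e.injM h2)
          exact ⟨_, by rw [← hx', h4]⟩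
      · intro v w hw
        have hv : (v : P ⧸ W j) ∈ θE.range := by rw [hrE]; exact v.2.1
        obtain ⟨y, hy⟩ := hv
        obtain ⟨x', hx'⟩ : ∃ x', ιM x' = ιE y := by
          have : ιE y ∈ ιM.range := by
            rw [e.rangeM]
            exact e.rangeE ⟨_, rfl⟩
          exact this
        have h2 : θM x' = w := by
          show q (ιM x') = w
          rw [hx', hw, ← hy]
          rfl
        have h3 := hρM ⟨a, ha⟩ w x' h2
        have h4 := hρ g v y hy
        refine h3.trans (Eq.trans ?_ h4.symm)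
        show q (ιM (a x')) = q (ιE ((g : MulAut XE) y))
        rw [h1 x' y hx']
    · intro t ht
      obtain ⟨s, rfl⟩ := hqs t
      have h1 : s ∈ ιE.range := hs.star e fun x => by
        rw [← hq1, map_mul, map_mul, map_mul, map_inv, map_inv, (ht (q (ιE x)) ⟨ιE x, ⟨x, rfl⟩, rfl⟩).eq,
          mul_inv_cancel_right, mul_inv_cancel]
      exact ⟨s, h1, rfl⟩
  -- back to `P`
  obtain ⟨i, hi1, hij, hiV, hiW, hiA, hiΓ⟩ := hcl
  have hji : W j ≤ W i := e.mc.antitone hij.le
  have hiE : W i ≤ ιE.range := by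
    intro x hx
    rw [← mem_map_mk hjle]
    exact (hiV ⟨x, hx, rfl⟩).1
  refine ⟨i, hi1, hij, hs.step e hij.le hiE ?_ ?_ ?_⟩
  · intro g x hx
    have h1 : θE x ∈ om p E' := hiV ⟨ιE x, hx, rfl⟩
    have h2 := hiΓ (QuotientGroup.mk g) ⟨θE x, h1⟩ ⟨ιE x, hx, rfl⟩
    rw [hρ g ⟨θE x, h1⟩ x rfl] at h2
    exact (mem_map_mk hji).1 h2
  · intro a ha x hx
    have h1 : θM x ∈ W' 1 := by rw [← hrM]; exact ⟨_, rfl⟩
    have h2 := hiA _ ⟨⟨a, ha⟩, rfl⟩ ⟨θM x, h1⟩ ⟨ιM x, hx, rfl⟩
    rw [hρM ⟨a, ha⟩ ⟨θM x, h1⟩ x rfl] at h2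
    exact (mem_map_mk hji).1 h2
  · have h1 : ⁅W i, W 1⁆.map q = ⊥ := by rw [map_commutator]; exact hiW
    rw [Subgroup.map_eq_bot_iff, QuotientGroup.ker_mk'] at h1
    exact h1

/-- **Block III, group theoretic form.** -/
theorem Ess.false (hCL : CL.{u} p) (e : Ess p n W ιM ιE GM GE H) {j₀ : ℕ} (h3 : 3 ≤ j₀) (hn : j₀ ≤ n)
    (hdeg : ∀ i k, 1 ≤ i → 1 ≤ k → ⁅W i, W k⁆ ≤ W (i + k + 1) ⊔ W j₀) (hle : W j₀ ≤ ιE.range)
    (invE : ∀ g : GE, ∀ x, ιE x ∈ W j₀ → ιE ((g : MulAut XE) x) ∈ W j₀)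
    (invM : ∀ a ∈ GM, ∀ x, ιM x ∈ W j₀ → ιM (a x) ∈ W j₀) (hc : ⁅W j₀, W 1⁆ = ⊥) : False := by
  have key : ∀ j, j ≤ j₀ → Stage W ιM ιE GM GE H j → False := by
    intro j
    induction j using Nat.strong_induction_on with
    | _ j ih =>
      intro hj hs
      have hjj : W j₀ ≤ W j := e.mc.antitone hj
      rcases Nat.lt_or_ge j 4 with h4 | h4
      · refine hs.not_abelian e ((hdeg 1 1 le_rfl le_rfl).trans (sup_le (e.mc.antitone (by omega)) hjj))
      · obtain ⟨i, -, hij, hi⟩ := hs.descend hCL e h4 (hj.trans hn)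
          (fun i k hi hk => (hdeg i k hi hk).trans (sup_le_sup_left hjj _))
        exact ih i hij (by omega) hi
  refine key j₀ le_rfl ((Stage.top e).step e hn hle invE invM ?_)
  rw [hc]
  exact bot_le

end Cfsg.Agent.H42.MaxEss
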