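import Cfsg.Agent.H42.MaxEss.Fusion
import Cfsg.Agent.H793.ExcE
import Cfsg.Agent.H467.DegUnif

/-!
# Block III of S5267, exceptional case: `n = 6`

* `card_ge` : an essential subgroup `E ≤ Γ₁` has order at least `p ^ 4`;
* `ne_V_two` : for `n = 6`, exceptional, `γ₂(S)` is not essential;
* `ext_six` : for `n = 6` the extendable automorphisms of an essential subgroup of `Γ₁` come from `Aut_F(Γ₁)`.
-/

set_option autoImplicit false

namespace Cfsg.Agent.H42.MaxEss

open Subgroup Cfsg Cfsg.FusionSystem Cfsg.Agent.H802 Cfsg.Agent.H744 Cfsg.Agent.H766 Cfsg.Agent.H786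
open Cfsg.Agent.H467.MaxClass Cfsg.Agent.H797.MaxOmega
open scoped commutatorElement

universe u

variable {Ω : Type u} [Group Ω] {S : Subgroup Ω} {p : ℕ} [hp : Fact p.Prime] [Finite S]

/-- pearls are not inside `Γ₁` -/
theorem not_pearl (hS : IsPGroup p S) {F : FusionSystem S} (hF : F.IsSaturated p) {n : ℕ} (hn : 4 ≤ n)
    (hcard : Nat.card S = p ^ n) {E : Subgroup Ω} (hE : IsPearl F p E) (hEM : E ≤ V (chain S) 1) : False := by
  obtain ⟨x, y, e, hfr⟩ := exists_frame hS hF hE.ess (pearl_frattini_index hS hE)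
  obtain ⟨m, -, -, -, -, hy, -⟩ := pearl_position hS hE hn hcard hfr
  obtain ⟨h1, h2⟩ := mem_V.1 (hEM y.2)
  exact hy h2

/-- order of an essential subgroup of `Γ₁` -/
theorem card_ge (hp3 : 3 ≤ p) (hS : IsPGroup p S) {F : FusionSystem S} (hF : F.IsSaturated p) {n : ℕ} (hn : 5 ≤ n)
    (h : MC S p n (chain S)) {E : Subgroup Ω} (hE : F.IsEssential p E) (hEM : E ≤ V (chain S) 1) :
    ∃ r, 4 ≤ r ∧ Nat.card E = p ^ r := by
  have hle := ess_le hE
  have hfE : Finite E := finite_of_le hle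
  have hEp : IsPGroup p E := hS.to_le hle
  obtain ⟨r, hr⟩ := IsPGroup.iff_card.1 hEp
  refine ⟨r, ?_, hr⟩
  by_contra hcon
  push Not at hcon
  obtain ⟨i1, i2⟩ := ess_frattini_index hS hE
  have hdvd : (frattini E).index ∣ p ^ r := by rw [← hr]; exact Subgroup.index_dvd_card _
  obtain ⟨k, hk, hke⟩ := (Nat.dvd_prime_pow hp.out).1 hdvd
  rw [hke] at i1 i2
  have hk0 : k ≠ 0 := by rintro rfl; exact i1 (pow_zero p)
  have hk1 : k ≠ 1 := by rintro rfl; exact i2 (pow_one p)
  have hr23 : r = 2 ∨ r = 3 := by omega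
  rcases hr23 with rfl | rfl
  · exact not_pearl hS hF (by omega) h.card_group ⟨hE, Or.inl hr⟩ hEM
  · by_cases hab : IsMulCommutative E
    · have hcomm : ∀ a b : E, a * b = b * a := fun a b => hab.is_comm.comm a b
      have hexp : ∀ a : E, a ^ p = 1 := by
        rcases ess_frattini_card_of_card_cube hS hE hr with h1 | ⟨h1, h2⟩
        · intro a
          have h3 := Cfsg.Agent.Lib.FrattiniPGroup.pow_mem_frattini hEp a
          rwa [h1, mem_bot] at h3
        · have hΦ : ∀ a ∈ frattini E, a ^ p = 1 := by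
            intro a ha
            have h3 : (⟨a, ha⟩ : frattini E) ^ Nat.card (frattini E) = 1 := pow_card_eq_one'
            rw [h1] at h3
            exact congrArg Subtype.val h3
          -- the `p`-power map
          let f : E →* E :=
            { toFun := fun a => a ^ p
              map_one' := one_pow p
              map_mul' := fun a b => (show Commute a b from hcomm a b).mul_pow p }
          have hfr : f.range ≤ frattini E := by
            rintro _ ⟨a, rfl⟩
            exact Cfsg.Agent.Lib.FrattiniPGroup.pow_mem_frattini hEp a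
          have hc1 : Nat.card f.range ≤ p := by
            rw [← h1]
            exact Subgroup.card_le_of_le hfr
          have hc2 : Nat.card f.ker * Nat.card f.range = p ^ 3 := by
            rw [← hr, ← Subgroup.card_mul_index f.ker, Subgroup.index_ker]
          obtain ⟨u, hu, hu'⟩ : ∃ u ∈ f.ker, u ∉ frattini E := by
            by_contra hcon2
            push Not at hcon2
            have h3 : Nat.card f.ker ≤ p := by
              rw [← h1]
              exact Subgroup.card_le_of_le hcon2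
            have h4 : Nat.card f.ker * Nat.card f.range ≤ p * p := Nat.mul_le_mul h3 hc1
            rw [hc2] at h4
            have h5 : p * p < p ^ 3 := by
              have : 1 < p := hp.out.one_lt
              nlinarith [Nat.mul_pos hp.out.pos hp.out.pos]
            omega
          obtain ⟨x, y, e, hfr'⟩ := exists_frame hS hF hE h2
          intro v
          by_cases hv : v ∈ frattini E
          · exact hΦ v hv
          · obtain ⟨α, -, hα⟩ := hfr'.trans hu' hv
            have h3 : v⁻¹ * α u ∈ frattini E := QuotientGroup.eq.1 hα.symm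
            have h4 := hΦ _ h3
            rw [(show Commute v⁻¹ (α u) from hcomm _ _).mul_pow, ← map_pow] at h4
            have h5 : u ^ p = 1 := hu
            rw [h5, map_one, mul_one, inv_pow, inv_eq_one] at h4
            exact h4
      exact Cfsg.Agent.H797.MaxEss.no_elementary_cube hS h hp3 hn hF hE
        (fun x hx y hy => congrArg Subtype.val (hcomm ⟨x, hx⟩ ⟨y, hy⟩))
        (fun x hx => congrArg Subtype.val (hexp ⟨x, hx⟩)) hr
    · exact not_pearl hS hF (by omega) h.card_group ⟨hE, Or.inr ⟨hr, hab⟩⟩ hEM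

open Cfsg.Agent.H767.EssFrat in
/-- an element of `N_S(E)` stabilising an `Aut_F(E)`-invariant chain is in `E` -/
theorem mem_of_chain (hS : IsPGroup p S) {F : FusionSystem S} {E : Subgroup Ω} (hE : F.IsEssential p E)
    (c : ℕ → Subgroup E) (n : ℕ) (hinv : ∀ i, ∀ α ∈ F.autGroup E, ∀ x ∈ c i, α x ∈ c i) (h0 : c 0 ≤ frattini E)
    (hn : c n = ⊤) {s : Ω} (hs : s ∈ S) (hsE : s ∈ normalizer (E : Set Ω))
    (h : ∀ i < n, ∀ x y : E, x ∈ c (i + 1) → (y : Ω) = (x : Ω)⁻¹ * (s * x * s⁻¹) → y ∈ c i) : s ∈ E := by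
  have hES := ess_le hE
  have hfE : Finite E := finite_of_le hES
  have hnorm : ∀ i, (c i).Normal := by
    intro i
    refine ⟨fun x hx g => ?_⟩
    exact hinv i (MulAut.conj g) (Cfsg.Agent.H802.inn_le_autGroup F hES ⟨g, rfl⟩) x hx
  have hK := chainStab_normal (F.autGroup E) c n hinv
  have hKp := chainStab_isPGroup (hS.to_le hES) (F.autGroup E) c n hinv hnorm h0 hn
  obtain ⟨a, ha⟩ := exists_conjAut hsE
  have haF : a ∈ F.autGroup E :=
    autInducedBy_le_autGroup F hES ((mem_autInducedBy_iff S E a).2 ⟨s, hs, ha⟩)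
  have haK : (⟨a, haF⟩ : F.autGroup E) ∈ chainStab (F.autGroup E) c n hinv := by
    intro i hi x hx
    refine h i hi x _ hx ?_
    rw [Subgroup.coe_mul, Subgroup.coe_inv]
    congr 1
    exact ha x
  have h1 := ess_core hE (chainStab (F.autGroup E) c n hinv) hKp haK
  obtain ⟨y, hy⟩ := mem_subgroupOf.1 h1
  have h2 : (y : Ω)⁻¹ * s ∈ E := by
    apply ess_centralizerIn_le hE
    refine ⟨S.mul_mem (S.inv_mem (hES y.2)) hs, mem_centralizer_iff.2 fun x hx => ?_⟩
    have h3 := ha ⟨x, hx⟩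
    have h4 : a ⟨x, hx⟩ = y * ⟨x, hx⟩ * y⁻¹ := by
      have := DFunLike.congr_fun hy ⟨x, hx⟩
      exact this.symm
    rw [h4] at h3
    have h5 : (y : Ω) * x * (y : Ω)⁻¹ = s * x * s⁻¹ := h3
    calc x * ((y : Ω)⁻¹ * s) = (y : Ω)⁻¹ * ((y : Ω) * x * (y : Ω)⁻¹) * s := by group
      _ = (y : Ω)⁻¹ * s * x := by rw [h5]; group
  have h6 := E.mul_mem y.2 h2
  rwa [mul_inv_cancel_left] at h6

/-- `γ₂(S)` is not essential for `n = 6`, `S` exceptional -/
theorem ne_V_two (hp3 : 3 ≤ p) (hS : IsPGroup p S) {F : FusionSystem S} {W : ℕ → Subgroup ↥S}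
    (h : MC S p 6 W) (hexc : h.Ksub 4 ≠ W 1) (hE : F.IsEssential p (V W 2)) : False := by
  have hES : V W 2 ≤ S := V_le 2
  obtain ⟨s, hs, hs'⟩ := Cfsg.Agent.H793.ExcA.V_ne h (i := 1) (by norm_num)
  obtain ⟨a, ha, ha'⟩ := Cfsg.Agent.H793.ExcA.V_ne h (i := 2) (by norm_num)
  obtain ⟨b, hb, hb'⟩ := Cfsg.Agent.H793.ExcA.V_ne h (i := 3) (by norm_num)
  have hsS := V_le 1 hs
  have hbE : b ∈ V W 2 := V_anti h (by norm_num) hb
  -- the centre
  have hcen : ∀ x : V W 2, x ∈ Subgroup.center (V W 2) ↔ (x : Ω) ∈ V W 4 := by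
    intro x
    rw [Subgroup.mem_center_iff]
    constructor
    · intro hx
      have hx' : ∀ y ∈ V W 2, ⁅(x : Ω), y⁆ = 1 := by
        intro y hy
        rw [commutatorElement_eq_one_iff_mul_comm]
        exact (congrArg Subtype.val (hx ⟨y, hy⟩)).symm
      have hx3 : (x : Ω) ∈ V W 3 := by
        by_contra hcon
        exact Cfsg.Agent.H793.ExcA.V_pairing h hp3 hexc (i := 2) (j := 3) (by norm_num) (by norm_num)
          (by norm_num) x.2 hcon hb hb' (hx' b hbE)
      by_contra hcon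
      exact Cfsg.Agent.H793.ExcA.V_pairing h hp3 hexc (i := 3) (j := 2) (by norm_num) (by norm_num)
          (by norm_num) hx3 hcon ha ha' (hx' a ha)
    · intro hx y
      have h1 := V_comm h hx y.2
      rw [V_bot h (by norm_num), mem_bot, commutatorElement_eq_one_iff_mul_comm] at h1
      exact Subtype.ext h1.symm
  -- the commutator subgroup
  have hcom : ∀ x : V W 2, x ∈ commutator (V W 2) ↔ (x : Ω) ∈ V W 5 := by
    intro x
    constructor
    · have h1 : commutator (V W 2) ≤ (V W 5).subgroupOf (V W 2) := by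
        rw [_root_.commutator_def, Subgroup.commutator_le]
        intro y _ z _
        rw [mem_subgroupOf]
        have := V_self h y.2 z.2
        exact this
      exact fun hx => h1 hx
    · intro hx
      have h1 : ⁅a, b⁆ ∈ V W 5 := V_comm h ha hb
      have h2 : ⁅a, b⁆ ∉ V W 6 := by
        rw [V_bot h le_rfl, mem_bot]
        exact Cfsg.Agent.H793.ExcA.V_pairing h hp3 hexc (i := 2) (j := 3) (by norm_num) (by norm_num)
          (by norm_num) ha ha' hb hb'
      obtain ⟨k, hk⟩ := Cfsg.Agent.H793.ExcA.V_gen h (by norm_num) h1 h2 hx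
      rw [V_bot h le_rfl, mem_bot, inv_mul_eq_one] at hk
      have h3 : x = ⁅(⟨a, ha⟩ : V W 2), (⟨b, hbE⟩ : V W 2)⁆ ^ k := Subtype.ext hk.symm
      rw [h3]
      exact Subgroup.zpow_mem _ (commutator_mem_commutator (mem_top _) (mem_top _)) k
  let c : ℕ → Subgroup (V W 2) := fun i => match i with
    | 0 => ⊥
    | 1 => commutator (V W 2)
    | 2 => Subgroup.center (V W 2)
    | _ => ⊤
  apply hs'
  have hconj : ∀ x : Ω, x⁻¹ * (s * x * s⁻¹) = ⁅x⁻¹, s⁆ := by
    intro x
    rw [commutatorElement_def]; group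
  refine mem_of_chain hS hE c 3 ?_ bot_le rfl hsS (map_normal (h.normal 2) hsS) ?_
  · intro i α _ x hx
    rcases i with _ | _ | _ | k
    · have hx1 : x = 1 := hx
      show α x = 1
      rw [hx1, map_one]
    · exact Subgroup.characteristic_iff_map_le.1 (inferInstance : (commutator (V W 2)).Characteristic) α ⟨x, hx, rfl⟩
    · exact Subgroup.characteristic_iff_map_le.1 (inferInstance : (Subgroup.center (V W 2)).Characteristic) α
        ⟨x, hx, rfl⟩
    · exact mem_top _
  · intro i hi x y hx hy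
    rw [hconj] at hy
    have hi' : i = 0 ∨ i = 1 ∨ i = 2 := by omega
    rcases hi' with rfl | rfl | rfl
    · have h1 : (x : Ω) ∈ V W 5 := (hcom x).1 hx
      have h2 := V_comm_S h (Subgroup.inv_mem _ h1) hsS
      rw [← hy, V_bot h (by norm_num), mem_bot] at h2
      show y = 1
      exact Subtype.ext h2
    · have h1 : (x : Ω) ∈ V W 4 := (hcen x).1 hx
      have h2 := V_comm h (Subgroup.inv_mem _ h1) hs
      rw [← hy] at h2
      exact (hcom y).2 h2
    · have h2 := V_deg h hp3 (i := 2) (j := 1) (by norm_num) (by norm_num) (by norm_num)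
        (Subgroup.inv_mem _ x.2) hs
      rw [← hy] at h2
      exact (hcen y).2 h2

/-- a subgroup of index `p` in a `p`-group is normal -/
theorem le_normalizer_of_card {p : ℕ} [hp : Fact p.Prime] {A B : Subgroup Ω} [Finite B] (hB : IsPGroup p B)
    (hAB : A ≤ B) (hc : Nat.card B = Nat.card A * p) : B ≤ normalizer (A : Set Ω) := by
  rw [← normal_subgroupOf_iff_le_normalizer hAB]
  have hA : Nat.card A ≠ 0 := by
    have : Finite A := Finite.Set.subset (B : Set Ω) hAB
    exact Nat.card_pos.ne'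
  have h1 : (A.subgroupOf B).index = p := by
    have h2 := (A.subgroupOf B).card_mul_index
    rw [Nat.card_congr (subgroupOfEquivOfLe hAB).toEquiv, hc] at h2
    exact Nat.eq_of_mul_eq_mul_left (Nat.pos_of_ne_zero hA) h2
  have h3 := Cfsg.Agent.H793.PearlA.isCoatom_of_index_prime (M := A.subgroupOf B) (by rw [h1]; exact hp.out)
  have hnil : Group.IsNilpotent B := hB.isNilpotent
  exact (Group.normalizerCondition_of_isNilpotent (G := B)).normal_of_coatom _ h3

/-- the normaliser, `n = 6` -/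
theorem normalizer_six (hS : IsPGroup p S) {W : ℕ → Subgroup ↥S} (h : MC S p 6 W) {E : Subgroup Ω}
    (hEM : E ≤ V W 1) (hc : Nat.card E = p ^ 4) (hne : E ≠ V W 2) : normalizerIn S E = V W 1 := by
  have hES : E ≤ S := hEM.trans (V_le 1)
  have hfM : Finite (V W 1) := finite_of_le (V_le 1)
  have hMc : Nat.card (V W 1) = p ^ 5 := V_card h 5 (by norm_num)
  have hle : V W 1 ≤ normalizerIn S E := by
    refine le_inf (V_le 1) (le_normalizer_of_card (hS.to_le (V_le 1)) hEM ?_)
    rw [hMc, hc]; ring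
  have hNS : normalizerIn S E ≤ S := inf_le_left
  have hfN : Finite (normalizerIn S E) := finite_of_le hNS
  have hSc := h.card_group
  obtain ⟨k, hk⟩ := IsPGroup.iff_card.1 (hS.to_le hNS)
  have h5 : 5 ≤ k := by
    have h1 := Subgroup.card_le_of_le hle
    rw [hMc, hk] at h1
    exact (Nat.pow_le_pow_iff_right hp.out.one_lt).1 h1
  have h6 : k ≤ 6 := by
    have h1 := Subgroup.card_le_of_le hNS
    rw [hSc, hk] at h1
    exact (Nat.pow_le_pow_iff_right hp.out.one_lt).1 h1
  rcases Nat.lt_or_ge k 6 with h7 | h7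
  · have : k = 5 := by omega
    subst this
    exact (Subgroup.eq_of_le_of_card_ge hle (by rw [hk, hMc])).symm
  · exfalso
    have : k = 6 := by omega
    subst this
    have hN : normalizerIn S E = S := Subgroup.eq_of_le_of_card_ge hNS (by rw [hk, hSc])
    have hn : (E.subgroupOf S).Normal := by
      rw [normal_subgroupOf_iff_le_normalizer hES]
      exact hN.ge.trans inf_le_right
    have h1 : E.subgroupOf S ≤ W 1 := by
      intro x hx
      obtain ⟨_, h2⟩ := mem_V.1 (hEM (mem_subgroupOf.1 hx))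
      exact h2
    obtain ⟨m, hm1, hm2, hm⟩ := h.exists_eq_W hn (i := 1) le_rfl h1 (by norm_num)
    apply hne
    have h2 : Nat.card (W m) = p ^ 4 := by
      rw [← hm, Nat.card_congr (subgroupOfEquivOfLe hES).toEquiv, hc]
    have h3 : Nat.card (W m) = p ^ (6 - m) := by
      have := h.card_W (6 - m) (by omega)
      rwa [show 6 - (6 - m) = m by omega] at this
    rw [h3] at h2
    have h4 := Nat.pow_right_injective hp.out.two_le h2
    have h5 : m = 2 := by have h4' : 6 - m = 4 := h4; omega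
    subst h5
    show E = (W 2).map S.subtype
    rw [← hm, subgroupOf_map_subtype, inf_eq_left.2 hES]

/-- **`n = 6`.** -/
theorem ext_six (hS : IsPGroup p S) {F : FusionSystem S} {W : ℕ → Subgroup ↥S} (h : MC S p 6 W) {E : Subgroup Ω}
    (hEM : E ≤ V W 1) (hc : Nat.card E = p ^ 4) (hne : E ≠ V W 2) (α : MulAut E) (hα : Cfsg.Agent.H744.Extends F E α) :
    ∃ a ∈ F.autGroup (V W 1), ∀ (x : V W 1) (y : E), (x : Ω) = y → ((a x : V W 1) : Ω) = α y := by
  have hES : E ≤ S := hEM.trans (V_le 1)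
  have hfE : Finite E := finite_of_le hES
  have hfM : Finite (V W 1) := finite_of_le (V_le 1)
  have hMc : Nat.card (V W 1) = p ^ 5 := V_card h 5 (by norm_num)
  have hN := normalizer_six hS h hEM hc hne
  obtain ⟨R, hER, ψ, hψ, hψα⟩ := hα
  have hRS := hom_le hψ
  have hfR : Finite R := finite_of_le hRS
  obtain ⟨k, hk⟩ := IsPGroup.iff_card.1 (hS.to_le hRS)
  have h4 : 4 < k := by
    have h1 : Nat.card E < Nat.card R := by
      by_contra hcon
      exact hER.ne (Subgroup.eq_of_le_of_card_ge hER.le (not_lt.1 hcon))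
    rw [hc, hk] at h1
    exact (Nat.pow_lt_pow_iff_right hp.out.one_lt).1 h1
  have h6 : k ≤ 6 := by
    have h1 := Subgroup.card_le_of_le hRS
    rw [h.card_group, hk] at h1
    exact (Nat.pow_le_pow_iff_right hp.out.one_lt).1 h1
  have hMR : V W 1 ≤ R := by
    rcases Nat.lt_or_ge k 6 with h7 | h7
    · have : k = 5 := by omega
      subst this
      have h8 : R ≤ V W 1 := by
        rw [← hN]
        refine le_inf hRS (le_normalizer_of_card (hS.to_le hRS) hER.le ?_)
        rw [hk, hc]; ring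
      exact (Subgroup.eq_of_le_of_card_ge h8 (by rw [hk, hMc])).ge
    · have : k = 6 := by omega
      subst this
      have h8 : R = S := Subgroup.eq_of_le_of_card_ge hRS (by rw [hk, h.card_group])
      rw [h8]
      exact V_le 1
  have h1 := restrict_mem hψ hMR
  have hval : ∀ (x : Ω) (hx : x ∈ E), ψ ⟨x, hER.le hx⟩ ∈ E := by
    intro x hx
    have h2 := hψα ⟨x, hx⟩
    have h3 : ψ ⟨x, hER.le hx⟩ = (α ⟨x, hx⟩ : E) := h2
    rw [h3]
    exact (α ⟨x, hx⟩).2
  have hsurj : ∀ (y : Ω), y ∈ E → ∃ (x : Ω) (hx : x ∈ E), ψ ⟨x, hER.le hx⟩ = y := by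
    intro y hy
    refine ⟨(α.symm ⟨y, hy⟩ : E), (α.symm ⟨y, hy⟩).2, ?_⟩
    have h3 : ψ ⟨(α.symm ⟨y, hy⟩ : E), hER.le (α.symm ⟨y, hy⟩).2⟩ = (α (α.symm ⟨y, hy⟩) : E) := hψα (α.symm ⟨y, hy⟩)
    rw [h3, MulEquiv.apply_symm_apply]
  have hMN : V W 1 ≤ normalizer (E : Set Ω) := hN.ge.trans inf_le_right
  have h2 : ∀ x : V W 1, (ψ.comp (Subgroup.inclusion hMR)) x ∈ V W 1 := by
    intro x
    refine hN.le ⟨hom_apply_mem h1 x, ?_⟩
    -- `ψ x` normalises `E`
    have key : ∀ x : V W 1, ∀ y ∈ E, ψ ⟨x, hMR x.2⟩ * y * (ψ ⟨x, hMR x.2⟩)⁻¹ ∈ E := by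
      intro x y hy
      obtain ⟨z, hz, rfl⟩ := hsurj y hy
      rw [← map_inv, ← map_mul, ← map_mul]
      exact hval (x * z * (x : Ω)⁻¹) ((mem_normalizer_iff.1 (hMN x.2) z).1 hz)
    show ψ ⟨x, hMR x.2⟩ ∈ normalizer (E : Set Ω)
    rw [mem_normalizer_iff]
    intro y
    refine ⟨key x y, fun hy => ?_⟩
    have h3 := key x⁻¹ _ hy
    have h4 : (⟨((x⁻¹ : V W 1) : Ω), hMR (x⁻¹).2⟩ : R) = (⟨x, hMR x.2⟩ : R)⁻¹ := rfl
    rw [h4, map_inv] at h3
    have h5 : (ψ ⟨x, hMR x.2⟩)⁻¹ * (ψ ⟨x, hMR x.2⟩ * y * (ψ ⟨x, hMR x.2⟩)⁻¹) * (ψ ⟨x, hMR x.2⟩)⁻¹⁻¹ = y := by group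
    rwa [h5] at h3
  obtain ⟨a, ha, h3⟩ := exists_aut h1 (range_eq_of_mapsTo h1 h2)
  refine ⟨a, ha, fun x y hxy => ?_⟩
  rw [h3]
  show ψ ⟨x, hMR x.2⟩ = α y
  rw [← hψα y]
  congr 1
  exact Subtype.ext hxy

end Cfsg.Agent.H42.MaxEss
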