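import Cfsg.Agent.H42.MaxEss.Act
import Cfsg.Agent.H802.FusAlp
import Cfsg.Agent.EvenType.StrongP

/-!
# Block III of S5267: the stages

`Ess` : the group theoretic content of "`E` is essential, `E < M = W 1`, the extendable automorphisms of `E` come from
`Aut_F(M)`". `Stage j` : `W j ≤ E` is invariant under `Aut_F(E)` and `Aut_F(M)`, and the kernel of `Aut_F(E)` on
`E / W j` lies in the strongly embedded subgroup. `Stage.step`, `Stage.not_three`.
-/

set_option autoImplicit false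

namespace Cfsg.Agent.H42.MaxEss

open Subgroup Cfsg.Agent.H786 Cfsg.Agent.H467.MaxClass
open scoped commutatorElement

universe u

variable {P XM XE : Type u} [Group P] [Group XM] [Group XE]

/-- the inner automorphisms in `GE` -/
abbrev II (GE : Subgroup (MulAut XE)) : Subgroup GE := (Inn XE).subgroupOf GE

/-- `E` essential, `E < M = W 1` -/
structure Ess (p n : ℕ) (W : ℕ → Subgroup P) (ιM : XM →* P) (ιE : XE →* P) (GM : Subgroup (MulAut XM))
    (GE : Subgroup (MulAut XE)) (H : Subgroup (GE ⧸ II GE)) : Prop where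
  mc : MC P p n W
  five : 5 ≤ p
  injM : Function.Injective ιM
  injE : Function.Injective ιE
  rangeM : ιM.range = W 1
  rangeE : ιE.range ≤ W 1
  ne : ιE.range ≠ W 1
  conjM : ∀ s : P, ∃ a ∈ GM, ∀ x, ιM (a x) = s * ιM x * s⁻¹
  sylM : ∃ T : Sylow p GM, ∀ a : GM, a ∈ T → ∃ s : P, ∀ x, ιM ((a : MulAut XM) x) = s * ιM x * s⁻¹
  conjE : ∀ s ∈ normalizer (ιE.range : Set P), ∃ b ∈ GE, ∀ x, ιE (b x) = s * ιE x * s⁻¹
  sylE : ∃ T : Sylow p GE, ∀ b : GE, b ∈ T → ∃ s : P, ∀ x, ιE ((b : MulAut XE) x) = s * ιE x * s⁻¹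
  centric : ∀ s : P, (∀ x, Commute s (ιE x)) → s ∈ ιE.range
  mem_H : ∀ g : GE, (QuotientGroup.mk g : GE ⧸ II GE) ∈ H ↔
    ∃ a ∈ GM, ∀ x y, ιM x = ιE y → ιM (a x) = ιE ((g : MulAut XE) y)
  H_ne : H ≠ ⊤
  inter : ∀ γ : GE ⧸ II GE, γ ∉ H → ¬ p ∣ Nat.card ↥(H ⊓ H.map (MulAut.conj γ).toMonoidHom)

/-- stage `j` -/
structure Stage (W : ℕ → Subgroup P) (ιM : XM →* P) (ιE : XE →* P) (GM : Subgroup (MulAut XM))
    (GE : Subgroup (MulAut XE)) (H : Subgroup (GE ⧸ II GE)) (j : ℕ) : Prop where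
  le : W j ≤ ιE.range
  invE : ∀ g : GE, ∀ x, ιE x ∈ W j → ιE ((g : MulAut XE) x) ∈ W j
  invM : ∀ a ∈ GM, ∀ x, ιM x ∈ W j → ιM (a x) ∈ W j
  ker : ∀ g : GE, (∀ x, ιE ((g : MulAut XE) x) * (ιE x)⁻¹ ∈ W j) → (QuotientGroup.mk g : GE ⧸ II GE) ∈ H

variable {p n : ℕ} {W : ℕ → Subgroup P} {ιM : XM →* P} {ιE : XE →* P} {GM : Subgroup (MulAut XM)}
  {GE : Subgroup (MulAut XE)} {H : Subgroup (GE ⧸ II GE)}

theorem mem_normalizer_of_conj {ι : XE →* P} {b : MulAut XE} {s : P} (h : ∀ x, ι (b x) = s * ι x * s⁻¹) :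
    s ∈ normalizer (ι.range : Set P) := by
  rw [mem_normalizer_iff]
  intro y
  constructor
  · rintro ⟨x, rfl⟩
    exact ⟨b x, h x⟩
  · rintro ⟨x, hx⟩
    refine ⟨b.symm x, ?_⟩
    have h1 := h (b.symm x)
    rw [MulEquiv.apply_symm_apply, hx] at h1
    exact (mul_left_cancel (mul_right_cancel h1)).symm

namespace Ess

variable (e : Ess p n W ιM ιE GM GE H)
include e

/-- conjugation by the elements of the normaliser -/
theorem exists_tau0 : ∃ τ : normalizer (ιE.range : Set P) →* GE, ∀ s x,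
    ιE (((τ s : GE) : MulAut XE) x) = (s : P) * ιE x * (s : P)⁻¹ := by
  choose f hf using e.conjE
  refine ⟨{ toFun := fun s => ⟨f s s.2, (hf s s.2).1⟩
            map_one' := ?_
            map_mul' := ?_ }, fun s x => (hf s s.2).2 x⟩
  · apply Subtype.ext
    apply MulEquiv.ext
    intro x
    apply e.injE
    rw [(hf _ _).2]
    simp
  · intro s t
    apply Subtype.ext
    apply MulEquiv.ext
    intro x
    apply e.injE
    show ιE (f _ _ x) = ιE (f s s.2 (f t t.2 x))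
    rw [(hf _ _).2, (hf _ _).2, (hf _ _).2, Subgroup.coe_mul]
    group

omit e in
/-- inner automorphisms -/
theorem mem_II {g : GE} : g ∈ II GE ↔ ∃ y : XE, ∀ x, (g : MulAut XE) x = y * x * y⁻¹ := by
  rw [mem_subgroupOf]
  constructor
  · rintro ⟨y, hy⟩
    refine ⟨y, fun x => ?_⟩
    rw [← hy, MulAut.conj_apply]
  · rintro ⟨y, hy⟩
    exact ⟨y, MulEquiv.ext fun x => (by rw [MulAut.conj_apply, hy])⟩

/-- the kernel of `τ` -/
theorem tau_eq_one {τ : normalizer (ιE.range : Set P) →* GE}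
    (hτ : ∀ s x, ιE (((τ s : GE) : MulAut XE) x) = (s : P) * ιE x * (s : P)⁻¹) (s : normalizer (ιE.range : Set P)) :
    (QuotientGroup.mk (τ s) : GE ⧸ II GE) = 1 ↔ (s : P) ∈ ιE.range := by
  rw [QuotientGroup.eq_one_iff, mem_II]
  constructor
  · rintro ⟨y, hy⟩
    have h1 : (ιE y)⁻¹ * s ∈ ιE.range := by
      apply e.centric
      intro x
      have h2 := hτ s x
      rw [hy, map_mul, map_mul, map_inv] at h2
      have h3 : (ιE y)⁻¹ * (s : P) * ιE x = ιE x * ((ιE y)⁻¹ * s) := by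
        calc (ιE y)⁻¹ * (s : P) * ιE x = (ιE y)⁻¹ * (s * ιE x * (s : P)⁻¹) * s := by group
          _ = _ := by rw [← h2]; group
      exact h3
    have e1 : (s : P) = ιE y * ((ιE y)⁻¹ * s) := by group
    rw [e1]
    exact mul_mem ⟨y, rfl⟩ h1
  · rintro ⟨y, hy⟩
    refine ⟨y, fun x => e.injE ?_⟩
    rw [hτ, ← hy, map_mul, map_mul, map_inv]

variable [Finite P] [Finite XE] [hp : Fact p.Prime]

theorem pgroup : IsPGroup p P := IsPGroup.of_card e.mc.card_group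

/-- the strongly embedded subgroup in the form of `H786.SE` -/
theorem se {τ : normalizer (ιE.range : Set P) →* GE}
    (hτ : ∀ s x, ιE (((τ s : GE) : MulAut XE) x) = (s : P) * ιE x * (s : P)⁻¹) :
    SE p H (((QuotientGroup.mk' (II GE)).comp τ).range) where
  le := by
    rintro _ ⟨s, rfl⟩
    show (QuotientGroup.mk (τ s) : GE ⧸ II GE) ∈ H
    rw [e.mem_H]
    obtain ⟨a, ha, h1⟩ := e.conjM s
    exact ⟨a, ha, fun x y hxy => by rw [h1, hτ, hxy]⟩
  pgroup := (e.pgroup.to_subgroup _).of_surjective ((QuotientGroup.mk' (II GE)).comp τ).rangeRestrict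
    ((QuotientGroup.mk' (II GE)).comp τ).rangeRestrict_surjective
  index := by
    obtain ⟨T, hT⟩ := e.sylE
    intro hd
    apply T.not_dvd_index
    refine hd.trans ((Subgroup.index_dvd_of_le (H := (T : Subgroup GE).map (QuotientGroup.mk' (II GE))) ?_).trans
      ((T : Subgroup GE).index_map_dvd (QuotientGroup.mk'_surjective _)))
    rintro _ ⟨b, hb, rfl⟩
    obtain ⟨s, hs⟩ := hT b hb
    refine ⟨⟨s, mem_normalizer_of_conj hs⟩, ?_⟩
    show QuotientGroup.mk' (II GE) (τ _) = QuotientGroup.mk' (II GE) b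
    congr 1
    apply Subtype.ext
    apply MulEquiv.ext
    intro x
    apply e.injE
    rw [hτ, hs]
  emb := by
    rintro γ hγ u ⟨s, rfl⟩ hu
    by_contra hne
    apply e.inter γ hγ
    set r := ((QuotientGroup.mk' (II GE)).comp τ) s with hr
    have hrH : r ∈ H := by
      show (QuotientGroup.mk (τ s) : GE ⧸ II GE) ∈ H
      rw [e.mem_H]
      obtain ⟨a, ha, h1⟩ := e.conjM s
      exact ⟨a, ha, fun x y hxy => by rw [h1, hτ, hxy]⟩
    have hmem : r ∈ H ⊓ H.map (MulAut.conj γ).toMonoidHom :=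
      ⟨hrH, Cfsg.Agent.EvenType.StrongP.mem_map_conj.2 hu⟩
    have h2 : orderOf r ∣ Nat.card ↥(H ⊓ H.map (MulAut.conj γ).toMonoidHom) := by
      rw [← Nat.card_zpowers]
      exact Subgroup.card_dvd_of_le (zpowers_le.2 hmem)
    refine dvd_trans ?_ h2
    have h3 : IsPGroup p ↥(((QuotientGroup.mk' (II GE)).comp τ).range) :=
      (e.pgroup.to_subgroup _).of_surjective ((QuotientGroup.mk' (II GE)).comp τ).rangeRestrict
        ((QuotientGroup.mk' (II GE)).comp τ).rangeRestrict_surjective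
    obtain ⟨k, hk⟩ := h3 ⟨r, ⟨s, rfl⟩⟩
    have hk' : r ^ p ^ k = 1 := congrArg Subtype.val hk
    obtain ⟨l, hl, hl'⟩ := (Nat.dvd_prime_pow hp.out).1 (orderOf_dvd_of_pow_eq_one hk')
    rw [hl']
    refine dvd_pow_self p ?_
    rintro rfl
    rw [pow_zero, orderOf_eq_one_iff] at hl'
    exact hne hl'
  ne := e.H_ne

/-! ### the kernels -/

omit e hp [Finite P] [Finite XE] in
/-- the kernel of `GE` on `E / W i` -/
theorem exists_K {i : ℕ} (hn : (W i).Normal) (hinv : ∀ g : GE, ∀ x, ιE x ∈ W i → ιE ((g : MulAut XE) x) ∈ W i) :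
    ∃ K : Subgroup GE, K.Normal ∧ ∀ g : GE, g ∈ K ↔ ∀ x, ιE ((g : MulAut XE) x) * (ιE x)⁻¹ ∈ W i := by
  refine ⟨{ carrier := {g | ∀ x, ιE ((g : MulAut XE) x) * (ιE x)⁻¹ ∈ W i}
            one_mem' := fun x => by simp
            mul_mem' := ?_
            inv_mem' := ?_ }, ⟨?_⟩, fun g => Iff.rfl⟩
  · intro g h hg hh x
    have e1 : ιE (((g * h : GE) : MulAut XE) x) * (ιE x)⁻¹ =
        (ιE ((g : MulAut XE) ((h : MulAut XE) x)) * (ιE ((h : MulAut XE) x))⁻¹) *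
          (ιE ((h : MulAut XE) x) * (ιE x)⁻¹) := by
      rw [Subgroup.coe_mul, MulAut.mul_apply]; group
    rw [e1]
    exact mul_mem (hg _) (hh _)
  · intro g hg x
    have h1 := hg ((g : MulAut XE)⁻¹ x)
    have h2 : (g : MulAut XE) ((g : MulAut XE)⁻¹ x) = x := by
      rw [← MulAut.mul_apply, mul_inv_cancel]; rfl
    rw [h2] at h1
    have h3 := inv_mem h1
    rw [mul_inv_rev, inv_inv] at h3
    exact h3
  · intro k hk g x
    have h2 : (g : MulAut XE) ((g : MulAut XE)⁻¹ x) = x := by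
      rw [← MulAut.mul_apply, mul_inv_cancel]; rfl
    have h3 := hk ((g : MulAut XE)⁻¹ x)
    rw [← map_inv, ← map_mul] at h3
    have h4 := hinv g _ h3
    have e1 : ((g * k * g⁻¹ : GE) : MulAut XE) x = (g : MulAut XE) ((k : MulAut XE) ((g : MulAut XE)⁻¹ x)) := rfl
    have e2 : ιE (((g * k * g⁻¹ : GE) : MulAut XE) x) * (ιE x)⁻¹ =
        ιE ((g : MulAut XE) ((k : MulAut XE) ((g : MulAut XE)⁻¹ x) * ((g : MulAut XE)⁻¹ x)⁻¹)) := by
      rw [e1, map_mul (g : MulAut XE), map_mul, map_inv (g : MulAut XE), h2, map_inv]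
    rw [e2]
    exact h4

end Ess

namespace Stage

variable [Finite P] [Finite XE] [hp : Fact p.Prime]

/-- stage `n` holds -/
theorem top (e : Ess p n W ιM ιE GM GE H) : Stage W ιM ιE GM GE H n where
  le := by rw [e.mc.bot]; exact bot_le
  invE := by
    intro g x hx
    rw [e.mc.bot, mem_bot] at hx ⊢
    have h1 : x = 1 := e.injE (hx.trans (map_one ιE).symm)
    rw [h1, map_one, map_one]
  invM := by
    intro g _ x hx
    rw [e.mc.bot, mem_bot] at hx ⊢
    have h1 : x = 1 := e.injM (hx.trans (map_one ιM).symm)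
    rw [h1, map_one, map_one]
  ker := by
    intro g hg
    have h1 : g = 1 := by
      apply Subtype.ext
      apply MulEquiv.ext
      intro x
      have := hg x
      rw [e.mc.bot, mem_bot] at this
      exact e.injE (mul_inv_eq_one.1 this)
    rw [h1]
    exact one_mem H

/-- `E / W j` is centric in `P / W j` -/
theorem star (e : Ess p n W ιM ιE GM GE H) {j : ℕ} (hs : Stage W ιM ιE GM GE H j) {s : P}
    (h : ∀ x, s * ιE x * s⁻¹ * (ιE x)⁻¹ ∈ W j) : s ∈ ιE.range := by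
  have hnj := e.mc.normal j
  obtain ⟨τ, hτ⟩ := e.exists_tau0
  obtain ⟨K, hKn, hK⟩ := Ess.exists_K hnj hs.invE
  have hKH : K.map (QuotientGroup.mk' (II GE)) ≤ H := by
    rintro _ ⟨g, hg, rfl⟩
    exact hs.ker g ((hK g).1 hg)
  have hKn' : (K.map (QuotientGroup.mk' (II GE))).Normal := hKn.map _ (QuotientGroup.mk'_surjective _)
  obtain ⟨-, h2⟩ := le_of_normal (e.se hτ) (N := K.map (QuotientGroup.mk' (II GE)))
    (C := K.map (QuotientGroup.mk' (II GE))) hKH (fun c hc => ⟨0, by simpa using hc⟩)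
  have h' : ∀ y ∈ ιE.range, s * y * s⁻¹ * y⁻¹ ∈ W j := by
    rintro _ ⟨x, rfl⟩
    exact h x
  have hsn : s ∈ normalizer (ιE.range : Set P) := by
    rw [mem_normalizer_iff]
    intro y
    constructor
    · intro hy
      have e1 : s * y * s⁻¹ = (s * y * s⁻¹ * y⁻¹) * y := by group
      rw [e1]
      exact mul_mem (hs.le (h' y hy)) hy
    · intro hy
      have h3 := hnj.conj_mem _ (h' _ hy) s⁻¹
      -- `s⁻¹ [s, z] s = z (s⁻¹ z⁻¹ s)`, `z = s y s⁻¹`
      have e1 : s⁻¹ * (s * (s * y * s⁻¹) * s⁻¹ * (s * y * s⁻¹)⁻¹) * s⁻¹⁻¹ = (s * y * s⁻¹) * y⁻¹ := by group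
      rw [e1] at h3
      have e2 : y = ((s * y * s⁻¹) * y⁻¹)⁻¹ * (s * y * s⁻¹) := by group
      rw [e2]
      exact mul_mem (inv_mem (hs.le h3)) hy
  rw [← e.tau_eq_one hτ ⟨s, hsn⟩]
  refine h2 _ ⟨⟨s, hsn⟩, rfl⟩ ⟨τ ⟨s, hsn⟩, (hK _).2 fun x => ?_, rfl⟩
  rw [hτ]
  exact h x

/-- **The base case.** -/
theorem not_abelian (e : Ess p n W ιM ιE GM GE H) {j : ℕ} (hs : Stage W ιM ιE GM GE H j)
    (h : ⁅W 1, W 1⁆ ≤ W j) : False := by
  apply e.ne
  apply le_antisymm e.rangeE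
  intro s hs1
  exact hs.star e fun x => h (commutator_mem_commutator hs1 (e.rangeE ⟨x, rfl⟩))

/-- **The step.** -/
theorem step (e : Ess p n W ιM ιE GM GE H) {i j : ℕ} (hs : Stage W ιM ιE GM GE H j) (hij : i ≤ j)
    (hle : W i ≤ ιE.range) (invE : ∀ g : GE, ∀ x, ιE x ∈ W i → ιE ((g : MulAut XE) x) ∈ W i)
    (invM : ∀ a ∈ GM, ∀ x, ιM x ∈ W i → ιM (a x) ∈ W i) (hc : ⁅W i, W 1⁆ ≤ W j) :
    Stage W ιM ιE GM GE H i := by
  have hnj := e.mc.normal j
  have hni := e.mc.normal i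
  have hji : W j ≤ W i := e.mc.antitone hij
  obtain ⟨τ, hτ⟩ := e.exists_tau0
  obtain ⟨Kj, hKjn, hKj⟩ := Ess.exists_K hnj hs.invE
  obtain ⟨Ki, hKin, hKi⟩ := Ess.exists_K hni invE
  -- the quotient map
  set q := QuotientGroup.mk' (W j) with hq
  let θ : XE →* P ⧸ W j := q.comp ιE
  have hθ1 : ∀ x, θ x = 1 ↔ ιE x ∈ W j := fun x => QuotientGroup.eq_one_iff _
  have hθd : ∀ x y : XE, θ x = θ y ↔ ιE x * (ιE y)⁻¹ ∈ W j := by
    intro x y
    rw [← mul_inv_eq_one, ← map_inv, ← map_mul, hθ1, map_mul, map_inv]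
  have hθg : ∀ (g : GE) (x y : XE), θ x = θ y → θ ((g : MulAut XE) x) = θ ((g : MulAut XE) y) := by
    intro g x y hxy
    rw [hθd, ← map_inv, ← map_mul] at hxy
    have h1 := hs.invE g _ hxy
    rw [map_mul, map_inv, map_mul, map_inv] at h1
    exact (hθd _ _).2 h1
  -- the elements acting trivially on `W i / W j` and `E / W i`
  let C : Subgroup GE :=
    { carrier := {g | g ∈ Ki ∧ ∀ x, ιE x ∈ W i → θ ((g : MulAut XE) x) = θ x}
      one_mem' := ⟨one_mem _, fun x _ => rfl⟩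
      mul_mem' := by
        rintro g h ⟨hg, hg'⟩ ⟨hh, hh'⟩
        refine ⟨mul_mem hg hh, fun x hx => ?_⟩
        show θ ((g : MulAut XE) ((h : MulAut XE) x)) = θ x
        rw [hg' _ (invE h x hx), hh' x hx]
      inv_mem' := by
        rintro g ⟨hg, hg'⟩
        refine ⟨inv_mem hg, fun x hx => ?_⟩
        have h1 := hg' _ (invE g⁻¹ x hx)
        have h2 : (g : MulAut XE) (((g⁻¹ : GE) : MulAut XE) x) = x := by
          show ((g * g⁻¹ : GE) : MulAut XE) x = x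
          rw [mul_inv_cancel]; rfl
        rw [h2] at h1
        exact h1.symm }
  have hC : ∀ g, g ∈ C ↔ g ∈ Ki ∧ ∀ x, ιE x ∈ W i → θ ((g : MulAut XE) x) = θ x := fun g => Iff.rfl
  have hCn : C.Normal := by
    constructor
    rintro k ⟨hk, hk'⟩ g
    refine ⟨hKin.conj_mem k hk g, fun x hx => ?_⟩
    have h1 := hk' _ (invE g⁻¹ x hx)
    have h2 := hθg g _ _ h1
    have h3 : (g : MulAut XE) (((g⁻¹ : GE) : MulAut XE) x) = x := by
      show ((g * g⁻¹ : GE) : MulAut XE) x = x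
      rw [mul_inv_cancel]; rfl
    rw [h3] at h2
    exact h2
  -- `C / Kj` is a `p`-group
  have hpow : ∀ g ∈ C, g ^ p ^ n ∈ Kj := by
    intro g hg
    have key : ∀ m : ℕ, ∀ x w : XE, ιE w ∈ W i → (g : MulAut XE) x = w * x →
        θ (((g ^ m : GE) : MulAut XE) x) = θ w ^ m * θ x := by
      intro m
      induction m with
      | zero => intro x w _ _; rw [pow_zero, pow_zero, one_mul]; rfl
      | succ m ih =>
        intro x w hw hx
        have e1 : ((g ^ (m + 1) : GE) : MulAut XE) x = ((g ^ m : GE) : MulAut XE) ((g : MulAut XE) x) := rfl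
        rw [e1, hx, map_mul, map_mul, ih x w hw hx, ((hC _).1 (pow_mem hg m)).2 w hw, pow_succ', mul_assoc]
    rw [hKj]
    intro x
    have hw : ιE ((g : MulAut XE) x * x⁻¹) ∈ W i := by
      rw [map_mul, map_inv]
      exact (hKi g).1 ((hC g).1 hg).1 x
    have h1 := key (p ^ n) x _ hw (by group)
    have h2 : θ ((g : MulAut XE) x * x⁻¹) ^ p ^ n = 1 := by
      have h3 : ιE ((g : MulAut XE) x * x⁻¹) ^ p ^ n = 1 := by
        rw [← e.mc.card_group]
        exact pow_card_eq_one'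
      show (q (ιE _)) ^ p ^ n = 1
      rw [← map_pow, h3, map_one]
    rw [h2, one_mul] at h1
    exact (hθd _ _).1 h1
  have hKjH : Kj.map (QuotientGroup.mk' (II GE)) ≤ H := by
    rintro _ ⟨g, hg, rfl⟩
    exact hs.ker g ((hKj g).1 hg)
  have hKjn' : (Kj.map (QuotientGroup.mk' (II GE))).Normal := hKjn.map _ (QuotientGroup.mk'_surjective _)
  have hCn' : (C.map (QuotientGroup.mk' (II GE))).Normal := hCn.map _ (QuotientGroup.mk'_surjective _)
  have hse := e.se hτ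
  obtain ⟨hCH, -⟩ := le_of_normal hse (N := Kj.map (QuotientGroup.mk' (II GE)))
    (C := C.map (QuotientGroup.mk' (II GE))) hKjH (by
      rintro _ ⟨g, hg, rfl⟩
      exact ⟨n, ⟨g ^ p ^ n, hpow g hg, map_pow _ _ _⟩⟩)
  refine ⟨hle, invE, invM, fun k hk => ?_⟩
  have hkK : k ∈ Ki := (hKi k).2 hk
  -- an element of `N_M(E)` outside `E`
  obtain ⟨s, hs1, hsn, hsE⟩ : ∃ s ∈ W 1, s ∈ normalizer (ιE.range : Set P) ∧ s ∉ ιE.range := by
    have h1 := Cfsg.Agent.H802.card_lt_card_normalizerIn (S := W 1) (e.pgroup.to_subgroup _) e.rangeE e.ne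
    by_contra hcon
    push Not at hcon
    have h2 : Cfsg.FusionSystem.normalizerIn (W 1) ιE.range ≤ ιE.range := fun s hs => hcon s hs.1 hs.2
    exact absurd (Subgroup.card_le_of_le h2) (by omega)
  set b := τ ⟨s, hsn⟩ with hb
  have hr1 : (QuotientGroup.mk b : GE ⧸ II GE) ≠ 1 := fun h => hsE ((e.tau_eq_one hτ _).1 h)
  -- `b` acts trivially on `W i / W j`
  have hbt : ∀ t ∈ W 1, ∀ (ht : t ∈ normalizer (ιE.range : Set P)) (x : XE), ιE x ∈ W i →
      θ (((τ ⟨t, ht⟩ : GE) : MulAut XE) x) = θ x := by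
    intro t ht1 ht x hx
    rw [hθd, hτ]
    have e1 : t * ιE x * t⁻¹ * (ιE x)⁻¹ = ⁅t, ιE x⁆ := rfl
    rw [e1, ← commutatorElement_inv]
    exact inv_mem (hc (commutator_mem_commutator hx ht1))
  have hcomm : k * b * k⁻¹ * b⁻¹ ∈ C := by
    refine (hC _).2 ⟨?_, fun x hx => ?_⟩
    · have e1 : k * b * k⁻¹ * b⁻¹ = k * (b * k⁻¹ * b⁻¹) := by group
      rw [e1]
      exact mul_mem hkK (hKin.conj_mem _ (inv_mem hkK) b)
    · have hbi : b⁻¹ = τ ⟨s⁻¹, inv_mem hsn⟩ := by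
        rw [hb, ← map_inv]; rfl
      have y1 : ιE (((b⁻¹ : GE) : MulAut XE) x) ∈ W i := invE b⁻¹ x hx
      have t1 : θ (((b⁻¹ : GE) : MulAut XE) x) = θ x := by
        rw [hbi]
        exact hbt s⁻¹ (inv_mem hs1) (inv_mem hsn) x hx
      have y2 : ιE (((k⁻¹ : GE) : MulAut XE) (((b⁻¹ : GE) : MulAut XE) x)) ∈ W i := invE k⁻¹ _ y1
      have t2 := hbt s hs1 hsn _ y2
      have t3 := hθg k _ _ t2
      have e1 : ((k * b * k⁻¹ * b⁻¹ : GE) : MulAut XE) x =
          (k : MulAut XE) ((b : MulAut XE) (((k⁻¹ : GE) : MulAut XE) (((b⁻¹ : GE) : MulAut XE) x))) := rfl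
      have e2 : (k : MulAut XE) (((k⁻¹ : GE) : MulAut XE) (((b⁻¹ : GE) : MulAut XE) x)) =
          ((b⁻¹ : GE) : MulAut XE) x := by
        show ((k * k⁻¹ : GE) : MulAut XE) _ = _
        rw [mul_inv_cancel]; rfl
      rw [e1]
      rw [e2] at t3
      exact t3.trans t1
  have h1 : (QuotientGroup.mk (k * b * k⁻¹ * b⁻¹) : GE ⧸ II GE) ∈ H := hCH ⟨_, hcomm, rfl⟩
  have hbR : (QuotientGroup.mk b : GE ⧸ II GE) ∈ ((QuotientGroup.mk' (II GE)).comp τ).range := ⟨⟨s, hsn⟩, rfl⟩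
  have hbH := hse.le hbR
  have h2 : ((QuotientGroup.mk k : GE ⧸ II GE)⁻¹)⁻¹ * QuotientGroup.mk b * (QuotientGroup.mk k : GE ⧸ II GE)⁻¹ ∈ H := by
    have h3 := mul_mem h1 hbH
    have e1 : (QuotientGroup.mk (k * b * k⁻¹ * b⁻¹) : GE ⧸ II GE) * QuotientGroup.mk b =
        ((QuotientGroup.mk k : GE ⧸ II GE)⁻¹)⁻¹ * QuotientGroup.mk b * (QuotientGroup.mk k : GE ⧸ II GE)⁻¹ := by
      rw [inv_inv, ← QuotientGroup.mk_inv, ← QuotientGroup.mk_mul, ← QuotientGroup.mk_mul, ← QuotientGroup.mk_mul]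
      congr 1
      group
    rwa [e1] at h3
  have h4 := hse.emb_all hbH (hse.pgroup.to_le (zpowers_le.mpr hbR)) hr1 h2
  exact (Subgroup.inv_mem_iff H).1 h4

end Stage

end Cfsg.Agent.H42.MaxEss
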